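import Mathlib

set_option autoImplicit false
universe u

namespace Groth.Agent.Lib.Helper5.DimQ
open PrimeSpectrum Module

variable {A : Type u} [CommRing A]

/-- chains above a point of the support bound the dimension -/
theorem ringKrullDim_quotient_le_supportDim (M : Type u) [AddCommGroup M] [Module A M]
    (p : PrimeSpectrum A) (hp : p ∈ Module.support A M) :
    ringKrullDim (A ⧸ p.asIdeal) ≤ Module.supportDim A M := by
  rw [← Module.supportDim_quotient_eq_ringKrullDim]
  unfold Module.supportDim
  refine Order.krullDim_le_of_strictMono (fun a => ⟨a.1, ?_⟩) (fun a b h => h)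
  have ha : a.1 ∈ zeroLocus (p.asIdeal : Set A) := by
    have h1 := a.2
    have h2 : Module.support A (A ⧸ p.asIdeal) = zeroLocus (p.asIdeal : Set A) := by
      rw [Module.support_eq_zeroLocus, Ideal.annihilator_quotient]
    rw [← h2]; exact h1
  rw [mem_zeroLocus] at ha
  exact Module.mem_support_mono (show p ≤ a.1 from ha) hp

/-- a semi-local Noetherian ring has finite Krull dimension -/
theorem ringKrullDim_lt_top [IsNoetherianRing A] [Finite (MaximalSpectrum A)] :
    ringKrullDim A < ⊤ := by
  classical
  by_cases hne : Nonempty (MaximalSpectrum A)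
  · obtain ⟨m₀, hm₀⟩ := exists_eq_ciSup_of_finite (f := fun m : MaximalSpectrum A => m.asIdeal.height)
    have h1 : ringKrullDim A ≤ (m₀.asIdeal.height : WithBot ℕ∞) := by
      rw [ringKrullDim_le_iff_isMaximal_height_le]
      intro m hm
      have : m.height ≤ m₀.asIdeal.height := by
        calc m.height = (⟨m, hm⟩ : MaximalSpectrum A).asIdeal.height := rfl
          _ ≤ ⨆ m : MaximalSpectrum A, m.asIdeal.height :=
              le_ciSup (f := fun m : MaximalSpectrum A => m.asIdeal.height)
                (Set.finite_range _).bddAbove _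
          _ = m₀.asIdeal.height := hm₀.symm
      exact_mod_cast this
    refine lt_of_le_of_lt h1 ?_
    haveI := m₀.isMaximal
    have : m₀.asIdeal.height ≠ ⊤ := Ideal.height_ne_top_of_isPrime
    rw [lt_top_iff_ne_top]
    intro h
    apply this
    exact_mod_cast h
  · -- no maximal ideals: trivial ring
    have : Subsingleton A := by
      by_contra hcon
      rw [not_subsingleton_iff_nontrivial] at hcon
      obtain ⟨m, hm⟩ := Ideal.exists_maximal A
      exact hne ⟨⟨m, hm⟩⟩
    rw [ringKrullDim_eq_bot_of_subsingleton]
    exact bot_lt_top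


theorem support_quotient_ideal (I : Ideal A) :
    Module.support A (A ⧸ I) = zeroLocus (I : Set A) := by
  rw [Module.support_eq_zeroLocus, Ideal.annihilator_quotient]

theorem length_le_ringKrullDim_quotient (N : Type u) [AddCommGroup N] [Module A N]
    (q : LTSeries (Module.support A N)) :
    (q.length : WithBot ℕ∞) ≤ ringKrullDim (A ⧸ q.head.1.asIdeal) := by
  rw [← Module.supportDim_quotient_eq_ringKrullDim]
  unfold Module.supportDim
  let q' : LTSeries (Module.support A (A ⧸ q.head.1.asIdeal)) :=
    { length := q.length
      toFun := fun i => ⟨(q i).1, by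
        rw [support_quotient_ideal, mem_zeroLocus]
        exact (q.monotone (Fin.zero_le i) : q.head ≤ q i)⟩
      step := fun i => q.step i }
  exact Order.LTSeries.length_le_krullDim q'

theorem main5767 [IsNoetherianRing A] [Finite (MaximalSpectrum A)] (M : Type u)
    [AddCommGroup M] [Module A M] [Module.Finite A M] (x : A) (hx : x ∈ Ring.jacobson A) :
    Module.supportDim A (QuotSMulTop x M) + 1 = Module.supportDim A M ↔
      ∀ p : PrimeSpectrum A, p ∈ Module.support A M →
        ringKrullDim (A ⧸ p.asIdeal) = Module.supportDim A M → x ∉ p.asIdeal := by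
  by_cases hM : Subsingleton M
  · have h1 : Module.supportDim A M = ⊥ := Module.supportDim_eq_bot_of_subsingleton A M
    have h2 : Module.supportDim A (QuotSMulTop x M) = ⊥ :=
      Module.supportDim_eq_bot_of_subsingleton A _
    have h3 : Module.support A M = ∅ := Module.support_eq_empty
    rw [h1, h2, h3]
    simp
  · rw [not_subsingleton_iff_nontrivial] at hM
    have hDbot : Module.supportDim A M ≠ ⊥ := Module.supportDim_ne_bot_of_nontrivial A M
    have hDtop : Module.supportDim A M < ⊤ :=
      lt_of_le_of_lt (Module.supportDim_le_ringKrullDim A M) ringKrullDim_lt_top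
    obtain ⟨n, hn⟩ : ∃ n : ℕ, Module.supportDim A M = (n : WithBot ℕ∞) := by
      obtain ⟨e, he⟩ := WithBot.ne_bot_iff_exists.mp hDbot
      have : e ≠ ⊤ := by
        rintro rfl
        rw [← he] at hDtop
        exact lt_irrefl _ hDtop
      obtain ⟨n, rfl⟩ := ENat.ne_top_iff_exists.mp this
      exact ⟨n, he.symm⟩
    have hjac : x ∈ (Module.annihilator A M).jacobson := by
      have : (⊥ : Ideal A).jacobson ≤ (Module.annihilator A M).jacobson :=
        Ideal.jacobson_mono bot_le
      apply this
      rw [Ideal.jacobson_bot]
      exact hx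
    have hge := Module.supportDim_le_supportDim_quotSMulTop_succ_of_mem_jacobson hjac
    have hsupp : ∀ q : PrimeSpectrum A, q ∈ Module.support A (QuotSMulTop x M) ↔
        q ∈ Module.support A M ∧ x ∈ q.asIdeal := by
      intro q
      rw [Module.support_quotSMulTop, Set.mem_inter_iff, mem_zeroLocus, Set.singleton_subset_iff]
      rfl
    constructor
    · intro h p hp hdim hxp
      -- D ≤ sd(M/xM)
      have h1 : ringKrullDim (A ⧸ p.asIdeal) ≤ Module.supportDim A (QuotSMulTop x M) :=
        ringKrullDim_quotient_le_supportDim _ p ((hsupp p).mpr ⟨hp, hxp⟩)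
      rw [hdim, hn] at h1
      have h2 : ((n : ℕ) : WithBot ℕ∞) + 1 ≤ Module.supportDim A (QuotSMulTop x M) + 1 :=
        add_le_add_left h1 1
      rw [h, hn] at h2
      have : n + 1 ≤ n := by exact_mod_cast h2
      omega
    · intro h
      apply le_antisymm _ hge
      -- no chain of length n in the support of M/xM
      have hno : ¬ ((n : ℕ) : WithBot ℕ∞) ≤ Module.supportDim A (QuotSMulTop x M) := by
        intro hle
        unfold Module.supportDim at hle
        obtain ⟨l, hl⟩ := Order.le_krullDim_iff.mp hle
        have hhead := (hsupp l.head.1).mp l.head.2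
        have h1 := length_le_ringKrullDim_quotient _ l
        have h2 := ringKrullDim_quotient_le_supportDim M l.head.1 hhead.1
        rw [hl] at h1
        rw [hn] at h2
        have h3 : ringKrullDim (A ⧸ l.head.1.asIdeal) = Module.supportDim A M := by
          rw [hn]; exact le_antisymm h2 h1
        exact h l.head.1 hhead.1 h3 hhead.2
      rw [hn]
      rw [not_le] at hno
      by_cases hs : Module.supportDim A (QuotSMulTop x M) = ⊥
      · rw [hs, WithBot.bot_add]; exact bot_le
      · obtain ⟨e, he'⟩ := WithBot.ne_bot_iff_exists.mp hs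
        rw [← he'] at hno ⊢
        have he : e < (n : ℕ∞) := by exact_mod_cast hno
        have hetop : e ≠ ⊤ := ne_top_of_lt he
        obtain ⟨k, rfl⟩ := ENat.ne_top_iff_exists.mp hetop
        have hk : k < n := by exact_mod_cast he
        have : k + 1 ≤ n := hk
        exact_mod_cast this

end Groth.Agent.Lib.Helper5.DimQ
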